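import Groth.Agent.AlgSp.LimScheme
import Groth.Agent.AlgSp.PointsMor

/-!
# Schemes among the stages of a limit, with local factorisations through an étale map
-/

universe u

open CategoryTheory CategoryTheory.Limits AlgebraicGeometry Opposite TopologicalSpace

set_option backward.isDefEq.respectTransparency false
set_option backward.isDefEq.respectTransparency.types false
set_option autoImplicit false

namespace Groth.Agent.AlgSpB.SchStage

open _root_.AlgSp Groth.Agent.AlgSp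

variable {S : Scheme.{u}}

/-- A scheme which is quasi-separated as a space over a quasi-separated base has quasi-separated
underlying space. -/
theorem quasiSeparatedSpace_left [QuasiSeparatedSpace ↥S] (Z : Over S)
    (h : IsQuasiSeparatedSp ((yon S).obj Z)) : QuasiSeparatedSpace ↥Z.left := by
  let hT := LimSepAbs.isTerminalBase (S := S)
  have h' := (LimSepAbs.diag_prop_iff @QuasiCompact _ hT (hT.from _)).2 h
  obtain ⟨m, hm⟩ := (yon S).map_surjective (hT.from ((yon S).obj Z))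
  rw [← hm] at h'
  have hr : Representable ((yon S).map m) := ((repWith_yon_map_iff (⊤ : MorphismProperty Scheme) m).2 trivial).1
  have hq : QuasiSeparated m.left := (repWith_yon_map_iff _ m).1
    ((Groth.Agent.AlgSp.repWith_diagonal_iff_of_representable @QuasiCompact @QuasiSeparated
      (fun h => (quasiSeparated_iff h).symm) (IsAlgSpace.yon_obj _) hr).1 h')
  have : QuasiSeparatedSpace ↥(Over.mk (𝟙 S)).left := ‹QuasiSeparatedSpace ↥S›
  exact quasiSeparatedSpace_of_quasiSeparated m.left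

theorem isQuasiCompactSp_of_iso {F G : Sp S} (ε : F ≅ G) (h : IsQuasiCompactSp F) : IsQuasiCompactSp G := by
  obtain ⟨U, p, hp, hps, hU⟩ := h
  exact ⟨U, p ≫ ε.hom, (MorphismProperty.cancel_right_of_respectsIso _ p ε.hom).2 hp,
    (MorphismProperty.cancel_right_of_respectsIso _ p ε.hom).2 hps, hU⟩

theorem isQuasiSeparatedSp_of_iso [QuasiSeparatedSpace ↥S] {F G : Sp S} (ε : F ≅ G)
    (h : IsQuasiSeparatedSp G) : IsQuasiSeparatedSp F := by
  refine LimAffine.isQuasiSeparatedSp_of_mor ε.hom ?_ h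
  have : IsIso (pullback.diagonal ε.hom) := (pullback.isIso_diagonal_iff ε.hom).2 inferInstance
  refine ⟨Functor.relativelyRepresentable.of_isIso (F := yon S) _, fun _ _ g fst snd sq => ?_⟩
  have : IsIso ((yon S).map snd) := sq.isIso_snd_of_isIso
  have : IsIso snd := isIso_of_reflects_iso _ (yon S)
  have : IsIso snd.left := inferInstanceAs (IsIso ((Over.forget S).map snd))
  exact (inferInstance : QuasiCompact snd.left)

/-- An open over `Z` lifts along `p`. -/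
def HasLift {X : Sp S} {U : Over S} (p : (yon S).obj U ⟶ X) {Z : Over S} (g : (yon S).obj Z ⟶ X)
    (W : Z.left.Opens) : Prop :=
  ∃ k : Over.mk (W.ι ≫ Z.hom) ⟶ U,
    (yon S).map k ≫ p = (yon S).map (Over.homMk W.ι rfl : Over.mk (W.ι ≫ Z.hom) ⟶ Z) ≫ g

theorem hasLift_mono {X : Sp S} {U : Over S} {p : (yon S).obj U ⟶ X} {Z : Over S}
    {g : (yon S).obj Z ⟶ X} {W W' : Z.left.Opens} (h : W' ≤ W) (hW : HasLift p g W) :
    HasLift p g W' := by
  obtain ⟨k, hk⟩ := hW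
  let j : Over.mk (W'.ι ≫ Z.hom) ⟶ Over.mk (W.ι ≫ Z.hom) := Over.homMk (Z.left.homOfLE h) (by simp)
  have e : j ≫ (Over.homMk W.ι rfl : Over.mk (W.ι ≫ Z.hom) ⟶ Z) =
      (Over.homMk W'.ι rfl : Over.mk (W'.ι ≫ Z.hom) ⟶ Z) := by
    ext1
    exact Scheme.homOfLE_ι _ h
  refine ⟨j ≫ k, ?_⟩
  rw [Functor.map_comp, Category.assoc, hk, ← Functor.map_comp_assoc, e]

theorem hasLift_preimage {X : Sp S} {U : Over S} {p : (yon S).obj U ⟶ X} {Z Z' : Over S}
    {g : (yon S).obj Z ⟶ X} {g' : (yon S).obj Z' ⟶ X} (θ : Z' ⟶ Z) (hθ : (yon S).map θ ≫ g = g')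
    {W : Z.left.Opens} (hW : HasLift p g W) : HasLift p g' (θ.left ⁻¹ᵁ W) := by
  obtain ⟨k, hk⟩ := hW
  let j : Over.mk ((θ.left ⁻¹ᵁ W).ι ≫ Z'.hom) ⟶ Over.mk (W.ι ≫ Z.hom) :=
    Over.homMk (θ.left ∣_ W) (by simp [morphismRestrict_ι_assoc])
  have e : j ≫ (Over.homMk W.ι rfl : Over.mk (W.ι ≫ Z.hom) ⟶ Z) =
      (Over.homMk (θ.left ⁻¹ᵁ W).ι rfl : Over.mk ((θ.left ⁻¹ᵁ W).ι ≫ Z'.hom) ⟶ Z') ≫ θ := by
    ext1
    exact morphismRestrict_ι θ.left W
  refine ⟨j ≫ k, ?_⟩
  rw [Functor.map_comp, Category.assoc, hk, ← Functor.map_comp_assoc, e, Functor.map_comp_assoc, hθ]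

set_option maxHeartbeats 1000000 in
/-- If a limit over `X` is a scheme which lifts locally along an étale map `p`, so is some stage. -/
theorem exists_stage [QuasiSeparatedSpace ↥S] {X : Sp S} {U : Over S} (p : (yon S).obj U ⟶ X)
    (hp : RepWith @Etale p) {I : Type u} [SmallCategory I] [IsCofiltered I] {D : I ⥤ Sp S}
    (hD : ∀ i, IsAlgSpace (D.obj i)) (hDa : ∀ (i j : I) (φ : i ⟶ j), IsAffineMor (D.map φ))
    (hqc : ∀ i, IsQuasiCompactSp (D.obj i)) (hqs : ∀ i, IsQuasiSeparatedSp (D.obj i))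
    (t : D ⟶ (Functor.const I).obj X) {c : Cone D} (hc : IsLimit c) {Y₀ : Over S}
    (e : c.pt ≅ (yon S).obj Y₀) {g₀ : (yon S).obj Y₀ ⟶ X} (hg : ∀ i, c.π.app i ≫ t.app i = e.hom ≫ g₀)
    (hlift : ∀ y : Y₀.left, ∃ W : Y₀.left.Opens, y ∈ W ∧ HasLift p g₀ W) :
    ∃ (i : I) (Y : Over S) (ε : (yon S).obj Y ≅ D.obj i),
      ∀ y : Y.left, ∃ W : Y.left.Opens, y ∈ W ∧ HasLift p (ε.hom ≫ t.app i) W := by
  classical
  obtain ⟨i₀, hi₀⟩ := LimScheme.exists_scheme_stage hD hDa hqc hqs hc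
    (Groth.Agent.AlgSpB.isRepresentable_of_iso e.symm)
  obtain ⟨T, ⟨εT⟩⟩ := Groth.Agent.AlgSpB.exists_iso_of_isRepresentable hi₀
  obtain ⟨L, l, q, ⟨hL⟩, -, -, hl, sq⟩ := LimSp.exists_isPullback hDa εT.hom c hc
  have : IsIso l := sq.isIso_fst_of_isIso
  have hfst : ∀ j : Over i₀, IsIso ((LimSp.sysFst hDa εT.hom).app j) := fun j =>
    ((LimSp.repWith_map hDa j.hom).1.isPullback εT.hom).isIso_fst_of_isIso
  let σ : ∀ j : Over i₀, (yon S).obj ((LimSp.sys hDa εT.hom).obj j) ≅ D.obj j.left := fun j =>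
    @asIso _ _ _ _ ((LimSp.sysFst hDa εT.hom).app j) (hfst j)
  let F := LimSp.sys hDa εT.hom ⋙ Over.forget S
  have hTc : CompactSpace ↥T.left := LimOpen.compactSpace_of_isQuasiCompactSp
    (isQuasiCompactSp_of_iso εT.symm (hqc i₀))
  have hTq : QuasiSeparatedSpace ↥T.left := quasiSeparatedSpace_left T
    (isQuasiSeparatedSp_of_iso εT (hqs i₀))
  have : ∀ {a b : Over i₀} (φ : a ⟶ b), IsAffineHom (F.map φ) := fun φ =>
    LimSp.isAffineHom_sys hDa εT.hom φ
  have : ∀ x, CompactSpace ↥(F.obj x) := fun x => by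
    have := LimSp.isAffineHom_sysSnd hDa εT.hom x
    exact QuasiCompact.compactSpace_of_compactSpace (LimSp.sysSnd hDa εT.hom x).left
  have : ∀ x, QuasiSeparatedSpace ↥(F.obj x) := fun x => by
    have := LimSp.isAffineHom_sysSnd hDa εT.hom x
    exact quasiSeparatedSpace_of_quasiSeparated (LimSp.sysSnd hDa εT.hom x).left
  -- the projection of the limit to `Y₀`
  obtain ⟨θ, hθ⟩ := (yon S).map_surjective (l ≫ e.hom)
  let gL : (yon S).obj L.pt ⟶ X := l ≫ e.hom ≫ g₀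
  have hθg : (yon S).map θ ≫ g₀ = gL := by rw [hθ, Category.assoc]
  have hgL : ∀ j : Over i₀, (yon S).map (L.π.app j) ≫ (σ j).hom ≫ t.app j.left = gL := fun j => by
    change _ = l ≫ e.hom ≫ g₀
    rw [← hg j.left]
    exact ((Category.assoc _ _ _).symm.trans ((congrArg (· ≫ t.app j.left) (hl j)).symm)).trans
      (Category.assoc _ _ _)
  have hloc : ∀ z : L.pt.left, ∃ W : L.pt.left.Opens, IsAffineOpen W ∧ z ∈ W ∧ HasLift p gL W := by
    intro z
    obtain ⟨W, hz, hW⟩ := hlift (θ.left z)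
    obtain ⟨_, ⟨W', hW', rfl⟩, hzW', hle⟩ := L.pt.left.isBasis_affineOpens.exists_subset_of_mem_open
      (show z ∈ ((θ.left ⁻¹ᵁ W : L.pt.left.Opens) : Set L.pt.left) from hz) (θ.left ⁻¹ᵁ W).isOpen
    exact ⟨W', hW', hzW', hasLift_mono hle (hasLift_preimage θ hθg hW)⟩
  choose W hWa hzW hWl using hloc
  obtain ⟨k, s, V, hV, hV'⟩ := Scheme.exists_isOpenCover_and_isAffine F ((Over.forget S).mapCone L) hL W
    (IsOpenCover.mk (top_le_iff.1 fun z _ => Opens.mem_iSup.2 ⟨z, hzW z⟩)) hWa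
  let T' := (LimSp.sys hDa εT.hom).obj k
  let τ : (yon S).obj T' ⟶ X := (σ k).hom ≫ t.app k.left
  let E := hp.1.pullback τ
  let π₂ : E ⟶ T' := hp.1.snd τ
  have hπ₂ : Etale π₂.left := hp.2 _ _ _ (hp.1.isPullback τ)
  obtain ⟨π₁, hπ₁⟩ := (yon S).map_surjective (hp.1.fst τ)
  -- descend the lifts
  have hdesc : ∀ j : s, ∃ (x : Over k) (h : (F.map x.hom ⁻¹ᵁ V j).toScheme ⟶ E.left),
      h ≫ π₂.left = (F.map x.hom ⁻¹ᵁ V j).ι ≫ F.map x.hom := by
    intro j
    have hl' : HasLift p gL ((L.π.app k).left ⁻¹ᵁ V j) := by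
      have := hWl j.1
      rwa [show W j.1 = (L.π.app k).left ⁻¹ᵁ V j from (hV' j).2] at this
    obtain ⟨c', hc'⟩ := hl'
    let W' := (L.π.app k).left ⁻¹ᵁ V j
    let ιk : Over.mk (W'.ι ≫ L.pt.hom) ⟶ T' :=
      (Over.homMk W'.ι rfl : Over.mk (W'.ι ≫ L.pt.hom) ⟶ L.pt) ≫ L.π.app k
    have hck : (yon S).map c' ≫ p = (yon S).map ιk ≫ τ := by
      rw [hc', ← hgL k, Functor.map_comp]
      exact (Category.assoc _ _ _).symm
    let a := hp.1.lift ((yon S).map c') ιk hck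
    have ha : a.left ≫ π₂.left = W'.ι ≫ (L.π.app k).left := by
      have := hp.1.lift_snd ((yon S).map c') ιk hck
      exact congrArg CommaMorphism.left this
    let tt : opensDiagram F k (V j) ⟶ (Functor.const (Over k)).obj (F.obj k) :=
      { app := fun x => (F.map x.hom ⁻¹ᵁ V j).ι ≫ F.map x.hom
        naturality := fun x y φ => by
          change (F.map φ.left).resLE _ _ _ ≫ (F.map y.hom ⁻¹ᵁ V j).ι ≫ F.map y.hom = _ ≫ 𝟙 _
          rw [Category.comp_id, Scheme.Hom.resLE_comp_ι_assoc, ← F.map_comp, Over.w φ] }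
    have : ∀ x, CompactSpace ↥((opensDiagram F k (V j)).obj x) := fun x => by
      have := ((hV' j).1.preimage (F.map x.hom))
      exact isCompact_iff_compactSpace.mp this.isCompact
    have : ∀ x, QuasiSeparatedSpace ↥((opensDiagram F k (V j)).obj x) := fun x => by
      have : IsAffine ((opensDiagram F k (V j)).obj x) := (hV' j).1.preimage (F.map x.hom)
      infer_instance
    obtain ⟨x, h, -, hh⟩ := Scheme.exists_π_app_comp_eq_of_locallyOfFinitePresentation
      (opensDiagram F k (V j)) tt π₂.left _ (isLimitOpensCone F ((Over.forget S).mapCone L) hL k (V j))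
      a.left (by
        ext x
        change (L.π.app x.left).left.resLE _ _ _ ≫ (F.map x.hom ⁻¹ᵁ V j).ι ≫ F.map x.hom = a.left ≫ π₂.left
        rw [ha, Scheme.Hom.resLE_comp_ι_assoc]
        exact congrArg (W'.ι ≫ ·) (congrArg CommaMorphism.left (L.w x.hom)))
    exact ⟨x, h, hh⟩
  choose x h hh using hdesc
  obtain ⟨K, hK⟩ := IsCofiltered.inf_objs_exists (Finset.univ.image x)
  have φ : ∀ j : s, K ⟶ x j := fun j => (hK (Finset.mem_image_of_mem _ (Finset.mem_univ j))).some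
  refine ⟨K.left.left, (LimSp.sys hDa εT.hom).obj K.left, σ K.left, fun y => ?_⟩
  obtain ⟨j, hj⟩ : ∃ j, (F.map K.hom) y ∈ V j := by
    have : (F.map K.hom) y ∈ ⨆ j, V j := hV.iSup_eq_top ▸ trivial
    exact Opens.mem_iSup.1 this
  let W' := F.map K.hom ⁻¹ᵁ V j
  refine ⟨W', hj, ?_⟩
  let r : W'.toScheme ⟶ (F.map (x j).hom ⁻¹ᵁ V j).toScheme :=
    (F.map (φ j).left).resLE _ _ (by rw [← Scheme.Hom.comp_preimage, ← F.map_comp, Over.w (φ j)])
  have hr : (r ≫ h j) ≫ π₂.left = W'.ι ≫ F.map K.hom := by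
    rw [Category.assoc, hh, Scheme.Hom.resLE_comp_ι_assoc, ← F.map_comp, Over.w (φ j)]
  let Y := (LimSp.sys hDa εT.hom).obj K.left
  let m : Over.mk (W'.ι ≫ Y.hom) ⟶ E := Over.homMk (r ≫ h j) (by
    change (r ≫ h j) ≫ E.hom = W'.ι ≫ Y.hom
    rw [← Over.w π₂, ← Category.assoc, hr, Category.assoc]
    exact congrArg (W'.ι ≫ ·) (Over.w ((LimSp.sys hDa εT.hom).map K.hom)))
  have hm : m ≫ π₂ = (Over.homMk W'.ι rfl : Over.mk (W'.ι ≫ Y.hom) ⟶ Y) ≫
      (LimSp.sys hDa εT.hom).map K.hom := by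
    ext1
    exact hr
  refine ⟨m ≫ π₁, ?_⟩
  rw [Functor.map_comp, Category.assoc, hπ₁, hp.1.w, ← Functor.map_comp_assoc, hm, Functor.map_comp,
    Category.assoc]
  congr 1
  have hn : (yon S).map ((LimSp.sys hDa εT.hom).map K.hom) ≫ (σ k).hom =
      (σ K.left).hom ≫ D.map K.hom.left := (LimSp.sysFst hDa εT.hom).naturality K.hom
  change (yon S).map ((LimSp.sys hDa εT.hom).map K.hom) ≫ (σ k).hom ≫ t.app k.left = _
  rw [reassoc_of% hn]
  congr 1
  exact (t.naturality K.hom.left).trans (Category.comp_id _)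

end Groth.Agent.AlgSpB.SchStage
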